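import Cfsg.Agent.Lib.OrthCrit.Plus

/-!
The two families of maximal totally singular subspaces of a split quadratic space, and the two
maximal singular subspaces through a submaximal one.
-/

set_option autoImplicit false

namespace CfsgLib.OrthGeom

open QuadraticMap Module
open CfsgLib.Classical.Quad (NDPolar)
open CfsgLib.OrthCrit (IsMaxSing)

variable {F V : Type*} [Field F] [AddCommGroup V] [Module F V] [FiniteDimensional F V]
variable {Q : QuadraticForm F V} {m : ℕ}

/-- Adjoining a singular vector orthogonal to a singular subspace. -/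
theorem singular_sup_span {A : Submodule F V} (hA : ∀ x ∈ A, Q x = 0) {w : V} (hw : Q w = 0)
    (ho : ∀ a ∈ A, polar Q a w = 0) : ∀ x ∈ A ⊔ F ∙ w, Q x = 0 := by
  intro x hx
  obtain ⟨a, ha, y, hy, rfl⟩ := Submodule.mem_sup.mp hx
  obtain ⟨c, rfl⟩ := Submodule.mem_span_singleton.mp hy
  rw [QuadraticMap.map_add (⇑Q), hA a ha, QuadraticMap.map_smul, hw, polar_smul_right, ho a ha]
  simp

theorem finrank_sup_span {A : Submodule F V} {w : V} (hw : w ∉ A) :
    finrank F ↥(A ⊔ F ∙ w) = finrank F A + 1 := by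
  have hne : w ≠ 0 := fun h => hw (h ▸ A.zero_mem)
  have h := Submodule.finrank_sup_add_finrank_inf_eq A (F ∙ w)
  rw [finrank_span_singleton hne] at h
  have h0 : A ⊓ F ∙ w = ⊥ := by
    rw [← disjoint_iff, Submodule.disjoint_span_singleton' hne]
    exact hw
  rw [h0, finrank_bot] at h
  omega

/-- A singular vector outside `U` gives a maximal singular subspace adjacent to `U`. -/
theorem exists_adjacent (hnd : NDPolar Q) (hV : finrank F V = 2 * m) {U : Submodule F V}
    (hU : IsMaxSing Q U) {w : V} (hw : Q w = 0) (hwU : w ∉ U) :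
    ∃ U' : Submodule F V, IsMaxSing Q U' ∧ finrank F ↥(U ⊓ U') + 1 = m ∧ w ∈ U' ∧
      U ⊓ LinearMap.ker (polarBilin Q w) ≤ U' := by
  set A := U ⊓ LinearMap.ker (polarBilin Q w) with hAdef
  have hUm : finrank F U = m := by have := hU.2; omega
  have hA1 : finrank F U ≤ finrank F A + 1 :=
    CfsgLib.OrthCrit.finrank_le_inf_ker_add_one U (polarBilin Q w)
  have hA2 : finrank F A < finrank F U := by
    refine Submodule.finrank_lt_finrank_of_lt (lt_of_le_of_ne inf_le_left fun h => hwU ?_)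
    refine hU.mem_of_orth hnd fun y hy => ?_
    rw [← h] at hy
    rw [polar_comm]; exact hy.2
  have hwA : w ∉ A := fun h => hwU h.1
  have hdim : finrank F ↥(A ⊔ F ∙ w) = m := by rw [finrank_sup_span hwA]; omega
  have hmax : IsMaxSing Q (A ⊔ F ∙ w) :=
    ⟨singular_sup_span (fun x (hx : x ∈ A) => hU.1 x hx.1) hw
      (fun a (ha : a ∈ A) => by rw [polar_comm]; exact ha.2),
      by omega⟩
  refine ⟨A ⊔ F ∙ w, hmax, ?_, Submodule.mem_sup_right (Submodule.mem_span_singleton_self w),
    le_sup_left⟩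
  have hlo : finrank F A ≤ finrank F ↥(U ⊓ (A ⊔ F ∙ w)) :=
    Submodule.finrank_mono (le_inf inf_le_left le_sup_left)
  have hlt : finrank F ↥(U ⊓ (A ⊔ F ∙ w)) < finrank F U :=
    Submodule.finrank_lt_finrank_of_lt (lt_of_le_of_ne inf_le_left fun h => hwU (by
      have hle : U ≤ A ⊔ F ∙ w := inf_eq_left.mp h
      rw [Submodule.eq_of_le_of_finrank_le hle (by omega)]
      exact Submodule.mem_sup_right (Submodule.mem_span_singleton_self w)))
  omega

/-- For adjacent `U`, `U'` the orthogonal of `U ⊓ U'` is `U ⊔ U'`. -/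
theorem orthogonal_inf_eq_sup (hnd : NDPolar Q) (hV : finrank F V = 2 * m) {U U' : Submodule F V}
    (hU : IsMaxSing Q U) (hU' : IsMaxSing Q U') (hadj : finrank F ↥(U ⊓ U') + 1 = m) :
    LinearMap.BilinForm.orthogonal (polarBilin Q) (U ⊓ U') = U ⊔ U' := by
  refine (Submodule.eq_of_le_of_finrank_le (sup_le ?_ ?_) ?_).symm
  · intro x hx y hy; exact hU.polar_eq_zero hy.1 hx
  · intro x hx y hy; exact hU'.polar_eq_zero hy.2 hx
  · rw [CfsgLib.Orth.finrank_polar_orthogonal hnd]
    have := Submodule.finrank_sup_add_finrank_inf_eq U U'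
    have := hU.2; have := hU'.2; omega

/-- A singular vector of `U ⊔ U'` lies in `U` or in `U'`. -/
theorem mem_or_mem_of_singular (hnd : NDPolar Q) (hV : finrank F V = 2 * m) {U U' : Submodule F V}
    (hU : IsMaxSing Q U) (hU' : IsMaxSing Q U') (hadj : finrank F ↥(U ⊓ U') + 1 = m) {x : V}
    (hx : x ∈ U ⊔ U') (hQ : Q x = 0) : x ∈ U ∨ x ∈ U' := by
  obtain ⟨u, hu, u', hu', rfl⟩ := Submodule.mem_sup.mp hx
  by_cases hA : u ∈ U ⊓ U'
  · exact Or.inr (add_mem hA.2 hu')
  refine Or.inl (add_mem hu (hU.mem_of_orth hnd ?_))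
  have hp : polar Q u u' = 0 := by
    rwa [QuadraticMap.map_add (⇑Q), hU.1 u hu, hU'.1 u' hu', zero_add, zero_add] at hQ
  have hUeq : U ⊓ U' ⊔ F ∙ u = U := by
    refine Submodule.eq_of_le_of_finrank_le (sup_le inf_le_left
      ((Submodule.span_singleton_le_iff_mem _ _).mpr hu)) ?_
    rw [finrank_sup_span hA]
    have := hU.2; omega
  intro y hy
  rw [← hUeq] at hy
  obtain ⟨a, ha, z, hz, rfl⟩ := Submodule.mem_sup.mp hy
  obtain ⟨c, rfl⟩ := Submodule.mem_span_singleton.mp hz
  rw [polar_add_left, polar_smul_left, hU'.polar_eq_zero ha.2 hu', hp, smul_zero, add_zero]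

/-- A singular subspace of `U ⊔ U'` lies in `U` or in `U'`. -/
theorem le_or_le_of_singular (hnd : NDPolar Q) (hV : finrank F V = 2 * m) {U U' : Submodule F V}
    (hU : IsMaxSing Q U) (hU' : IsMaxSing Q U') (hadj : finrank F ↥(U ⊓ U') + 1 = m)
    {X : Submodule F V} (hX : ∀ x ∈ X, Q x = 0) (hle : X ≤ U ⊔ U') : X ≤ U ∨ X ≤ U' := by
  by_contra! hc
  obtain ⟨a, haX, haU⟩ := SetLike.not_le_iff_exists.mp hc.1
  obtain ⟨b, hbX, hbU⟩ := SetLike.not_le_iff_exists.mp hc.2
  have key := fun x hx => mem_or_mem_of_singular hnd hV hU hU' hadj (hle hx) (hX x hx)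
  have ha := (key a haX).resolve_left haU
  have hb := (key b hbX).resolve_right hbU
  rcases key (a + b) (add_mem haX hbX) with h | h
  · exact haU (by simpa using sub_mem h hb)
  · exact hbU (by simpa using sub_mem h ha)

/-- `dim (X ⊓ Aᗮ) = dim (X ⊓ A) + 1` for submaximal `A`. -/
theorem finrank_inf_orthogonal (hnd : NDPolar Q) (hV : finrank F V = 2 * m) {A X : Submodule F V}
    (hA : finrank F A + 1 = m) (hX : IsMaxSing Q X) :
    finrank F ↥(X ⊓ LinearMap.BilinForm.orthogonal (polarBilin Q) A) =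
      finrank F ↥(X ⊓ A) + 1 := by
  have h : X ⊓ LinearMap.BilinForm.orthogonal (polarBilin Q) A =
      LinearMap.BilinForm.orthogonal (polarBilin Q) (X ⊔ A) := by
    refine le_antisymm ?_ fun x hx => ?_
    · intro x hx y hy
      obtain ⟨u, hu, a, ha, rfl⟩ := Submodule.mem_sup.mp hy
      show polar Q (u + a) x = 0
      rw [polar_add_left, hX.polar_eq_zero hu hx.1]
      rw [show polar Q a x = 0 from hx.2 a ha, add_zero]
    · exact ⟨hX.mem_of_orth hnd fun y hy => hx y (Submodule.mem_sup_left hy),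
        fun y hy => hx y (Submodule.mem_sup_right hy)⟩
  rw [h, CfsgLib.Orth.finrank_polar_orthogonal hnd]
  have := Submodule.finrank_sup_add_finrank_inf_eq X A
  have := Submodule.finrank_mono (inf_le_right : X ⊓ A ≤ A)
  have := hX.2
  omega

/-- Every maximal singular subspace meets two adjacent ones in dimensions differing by one. -/
theorem finrank_inf_adjacent (hnd : NDPolar Q) (hV : finrank F V = 2 * m) {U U' : Submodule F V}
    (hU : IsMaxSing Q U) (hU' : IsMaxSing Q U') (hadj : finrank F ↥(U ⊓ U') + 1 = m)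
    {X : Submodule F V} (hX : IsMaxSing Q X) :
    finrank F ↥(U ⊓ X) = finrank F ↥(U' ⊓ X) + 1 ∨
      finrank F ↥(U' ⊓ X) = finrank F ↥(U ⊓ X) + 1 := by
  have hd := finrank_inf_orthogonal hnd hV hadj hX
  rw [orthogonal_inf_eq_sup hnd hV hU hU' hadj] at hd
  rcases le_or_le_of_singular hnd hV hU hU' hadj (X := X ⊓ (U ⊔ U')) (fun x hx => hX.1 x hx.1)
      inf_le_right with h | h
  · left
    have e1 : U ⊓ X = X ⊓ (U ⊔ U') :=
      le_antisymm (le_inf inf_le_right (inf_le_left.trans le_sup_left)) (le_inf h inf_le_left)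
    have e2 : U' ⊓ X = X ⊓ (U ⊓ U') := by
      refine le_antisymm (fun x hx => ⟨hx.2, h ⟨hx.2, Submodule.mem_sup_right hx.1⟩, hx.1⟩) ?_
      exact le_inf (inf_le_right.trans inf_le_right) inf_le_left
    rw [e1, e2, hd]
  · right
    have e1 : U' ⊓ X = X ⊓ (U ⊔ U') :=
      le_antisymm (le_inf inf_le_right (inf_le_left.trans le_sup_right)) (le_inf h inf_le_left)
    have e2 : U ⊓ X = X ⊓ (U ⊓ U') := by
      refine le_antisymm (fun x hx => ⟨hx.2, hx.1, h ⟨hx.2, Submodule.mem_sup_left hx.1⟩⟩) ?_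
      exact le_inf (inf_le_right.trans inf_le_left) inf_le_left
    rw [e1, e2, hd]

/-- The codimensions of pairwise intersections of three maximal singular subspaces have even
sum. -/
theorem parity_triple (hnd : NDPolar Q) (hV : finrank F V = 2 * m) {W X : Submodule F V}
    (hW : IsMaxSing Q W) (hX : IsMaxSing Q X) : ∀ {U : Submodule F V}, IsMaxSing Q U →
    (finrank F ↥(U ⊓ W) : ZMod 2) + finrank F ↥(W ⊓ X) + finrank F ↥(U ⊓ X) + m = 0 := by
  intro U hU
  induction hk : m - finrank F ↥(U ⊓ W) using Nat.strong_induction_on generalizing U with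
  | _ k ih =>
    have hUm : finrank F U = m := by have := hU.2; omega
    have hWm : finrank F W = m := by have := hW.2; omega
    by_cases hWU : W ≤ U
    · obtain rfl : W = U := Submodule.eq_of_le_of_finrank_le hWU (by omega)
      rw [inf_idem, hWm]
      linear_combination ((m : ZMod 2) + (finrank F ↥(W ⊓ X) : ZMod 2)) *
        CharTwo.two_eq_zero (R := ZMod 2)
    obtain ⟨w, hw, hwU⟩ := SetLike.not_le_iff_exists.mp hWU
    obtain ⟨U', hU', hadj, hwU', hle⟩ := exists_adjacent hnd hV hU (hW.1 w hw) hwU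
    have hlt : finrank F ↥(U ⊓ W) < finrank F ↥(U' ⊓ W) := by
      refine Submodule.finrank_lt_finrank_of_lt (lt_of_le_of_ne (fun x hx => ⟨hle ⟨hx.1, ?_⟩, hx.2⟩) ?_)
      · exact hW.polar_eq_zero hw hx.2
      · intro h
        have hmem : w ∈ U' ⊓ W := ⟨hwU', hw⟩
        rw [← h] at hmem
        exact hwU hmem.1
    have h1 : finrank F ↥(U' ⊓ W) = finrank F ↥(U ⊓ W) + 1 := by
      rcases finrank_inf_adjacent hnd hV hU hU' hadj hW with h | h <;> omega
    have hbd : finrank F ↥(U' ⊓ W) ≤ m := hWm ▸ Submodule.finrank_mono inf_le_right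
    have hrec := ih _ (by omega) hU' rfl
    rw [h1] at hrec
    rcases finrank_inf_adjacent hnd hV hU hU' hadj hX with h2 | h2
    · rw [h2]; push_cast at hrec ⊢
      linear_combination hrec
    · rw [h2] at hrec; push_cast at hrec
      linear_combination hrec - CharTwo.two_eq_zero (R := ZMod 2)

/-- A submaximal singular subspace lies in exactly two maximal ones, given that one exists. -/
theorem exists_two_over (hnd : NDPolar Q) (hV : finrank F V = 2 * m) {H A : Submodule F V}
    (hH : IsMaxSing Q H) (hA : finrank F A + 1 = m) (hAs : ∀ x ∈ A, Q x = 0) :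
    ∃ U U' : Submodule F V, U ≠ U' ∧ IsMaxSing Q U ∧ IsMaxSing Q U' ∧ A ≤ U ∧ A ≤ U' ∧
      ∀ X : Submodule F V, IsMaxSing Q X → A ≤ X → X = U ∨ X = U' := by
  obtain ⟨h, ⟨hhH, hho⟩, hhA⟩ : ∃ h ∈ H ⊓ LinearMap.BilinForm.orthogonal (polarBilin Q) A,
      h ∉ A := by
    by_contra! hc
    have := Submodule.finrank_mono (show H ⊓ LinearMap.BilinForm.orthogonal (polarBilin Q) A ≤
      H ⊓ A from fun x hx => ⟨hx.1, hc x hx⟩)
    rw [finrank_inf_orthogonal hnd hV hA hH] at this
    omega
  set U := A ⊔ F ∙ h with hUdef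
  have hU : IsMaxSing Q U :=
    ⟨singular_sup_span hAs (hH.1 h hhH) (fun a ha => hho a ha),
      by rw [hUdef, finrank_sup_span hhA]; omega⟩
  have hUm : finrank F U = m := by have := hU.2; omega
  have hhU : h ∈ U := Submodule.mem_sup_right (Submodule.mem_span_singleton_self h)
  obtain ⟨v, hvo, hvU⟩ : ∃ v ∈ LinearMap.BilinForm.orthogonal (polarBilin Q) A, v ∉ U := by
    refine SetLike.not_le_iff_exists.mp fun hle => ?_
    have := Submodule.finrank_mono hle
    rw [CfsgLib.Orth.finrank_polar_orthogonal hnd] at this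
    omega
  have hc : polar Q v h ≠ 0 := by
    intro h0
    refine hvU (hU.mem_of_orth hnd fun y hy => ?_)
    obtain ⟨a, ha, z, hz, rfl⟩ := Submodule.mem_sup.mp hy
    obtain ⟨c, rfl⟩ := Submodule.mem_span_singleton.mp hz
    rw [polar_add_left, polar_smul_left, show polar Q a v = 0 from hvo a ha, polar_comm Q h v, h0,
      smul_zero, add_zero]
  set w := v + (-(Q v / polar Q v h)) • h with hwdef
  have hwU : w ∉ U := fun h' => hvU (by
    rw [show v = w - (-(Q v / polar Q v h)) • h by rw [hwdef]; abel]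
    exact sub_mem h' (U.smul_mem _ hhU))
  have hQw : Q w = 0 := by
    rw [hwdef, QuadraticMap.map_add (⇑Q), QuadraticMap.map_smul, hH.1 h hhH, polar_smul_right,
      smul_eq_mul, smul_eq_mul]
    field_simp
    ring
  obtain ⟨U', hU', hadj, hwU', hle⟩ := exists_adjacent hnd hV hU hQw hwU
  have hAU' : A ≤ U' := fun a ha => hle ⟨Submodule.mem_sup_left ha, by
    show polar Q w a = 0
    rw [hwdef, polar_add_left, polar_smul_left, polar_comm Q v a, show polar Q a v = 0 from hvo a ha,
      polar_comm Q h a, show polar Q a h = 0 from hho a ha, smul_zero, add_zero]⟩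
  have hne : U ≠ U' := fun e => hwU (e ▸ hwU')
  refine ⟨U, U', hne, hU, hU', le_sup_left, hAU', fun X hX hAX => ?_⟩
  have hinf : A = U ⊓ U' :=
    Submodule.eq_of_le_of_finrank_le (le_inf le_sup_left hAU') (by omega)
  have hXle : X ≤ U ⊔ U' := by
    rw [← orthogonal_inf_eq_sup hnd hV hU hU' hadj, ← hinf]
    exact fun x hx a ha => hX.polar_eq_zero (hAX ha) hx
  rcases le_or_le_of_singular hnd hV hU hU' hadj hX.1 hXle with h' | h'
  · exact Or.inl (Submodule.eq_of_le_of_finrank_le h' (by have := hX.2; omega))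
  · exact Or.inr (Submodule.eq_of_le_of_finrank_le h' (by have := hX.2; have := hU'.2; omega))

section Split

variable {K : Type*} [Field K]

theorem isMaxSing_plus_iff (U : Submodule K (Fin m ⊕ Fin m → K)) :
    IsMaxSing (CfsgLib.OrthCrit.plusForm m K) U ↔
      finrank K U = m ∧ ∀ w ∈ U, Cfsg.quadFormPlus m K w = 0 := by
  unfold IsMaxSing
  rw [finrank_fintype_fun_eq_card, Fintype.card_sum, Fintype.card_fin]
  simp only [CfsgLib.OrthCrit.plusForm_apply]
  constructor
  · rintro ⟨h1, h2⟩; exact ⟨by omega, h1⟩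
  · rintro ⟨h1, h2⟩; exact ⟨h2, by omega⟩

theorem finrank_plus_space : finrank K (Fin m ⊕ Fin m → K) = 2 * m := by
  rw [finrank_fintype_fun_eq_card, Fintype.card_sum, Fintype.card_fin]; omega

theorem isMaxSing_halfSpace :
    IsMaxSing (CfsgLib.OrthCrit.plusForm m K) (CfsgLib.OrthCrit.halfSpace K m) :=
  ⟨CfsgLib.OrthCrit.halfSpace_singular, by
    rw [CfsgLib.OrthCrit.finrank_halfSpace, finrank_plus_space]⟩

end Split

end CfsgLib.OrthGeom
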